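import Groth.Agent.Lib.PointBlowUp32.Exceptional
import Groth.Agent.Lib.RelMin32.Birat
import Groth.Agent.Lib.RelMin32.Factor
import Groth.Agent.Lib.RootExt25.Point
import Mathlib

/-!
# Functions factoring along the components of an exceptional fibre
-/

set_option autoImplicit false
set_option linter.style.haveILetI false
set_option linter.unusedSectionVars false
set_option backward.isDefEq.respectTransparency false
set_option maxHeartbeats 1000000

universe u

open CategoryTheory CategoryTheory.Limits AlgebraicGeometry TopologicalSpace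

noncomputable section

namespace Groth.Agent.FibreFn32

variable {A : Type u} [CommRing A] [IsDomain A] [IsLocalRing A] [IsNoetherianRing A] [IsIntegrallyClosed A]
  {X : Scheme.{u}} (f : X ⟶ Spec (CommRingCat.of A)) [IsProper f] [IsIntegral X]

/-- A point of the closed fibre which is alone there forces the modification to be an isomorphism. -/
theorem isIso_of_isolated (hgen : f (genericPoint X) = genericPoint (Spec (CommRingCat.of A)))
    [IsIso (f.stalkMap (genericPoint X))] {x : X} (hx : f x = IsLocalRing.closedPoint A)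
    (hopen : ∃ V : Set X, IsOpen V ∧ V ∩ f ⁻¹' {IsLocalRing.closedPoint A} = {x}) (hxc : IsClosed ({x} : Set X)) :
    IsIso f := by
  haveI : IsLocallyNoetherian X := LocallyOfFiniteType.isLocallyNoetherian f
  haveI : CompactSpace X := (inferInstance : QuasiCompact f).compactSpace_of_compactSpace
  haveI : AlgebraicGeometry.IsNoetherian X := {}
  have hn := RootExt25.isNormalScheme_spec A
  have hconn := RelMin.isPreconnected_fibre f hgen (fun q => (hn q).2) (IsLocalRing.closedPoint A : Spec (CommRingCat.of A))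
  obtain ⟨V, hV, hVx⟩ := hopen
  have hxV : x ∈ V := (hVx.ge rfl).1
  have hall : ∀ z, f z = IsLocalRing.closedPoint A → z = x := fun z hz => by
    by_contra hne
    have hcov : f ⁻¹' {(IsLocalRing.closedPoint A : Spec (CommRingCat.of A))} ⊆ V ∪ {x}ᶜ := fun w _ => by
      by_cases hw : w = x
      · exact Or.inl (hw ▸ hxV)
      · exact Or.inr hw
    obtain ⟨w, hwf, hwV, hwx⟩ := hconn V {x}ᶜ hV hxc.isOpen_compl hcov ⟨x, hx, hxV⟩ ⟨z, hz, hne⟩
    exact hwx (hVx.le ⟨hwV, hwf⟩)
  have hspec : ∀ z : X, z ⤳ x := fun z => by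
    obtain ⟨c, hc, hcc⟩ := IsClosed.exists_closed_singleton (S := closure {z}) isClosed_closure ⟨z, subset_closure rfl⟩
    have hfc : IsClosed ({f c} : Set (Spec (CommRingCat.of A))) := by
      have := f.isClosedMap _ hcc
      rwa [Set.image_singleton] at this
    have e : f c = IsLocalRing.closedPoint A :=
      ((IsLocalRing.specializes_closedPoint (f c : PrimeSpectrum A)).mem_closed hfc rfl).symm
    exact hall c e ▸ specializes_iff_mem_closure.2 hc
  obtain ⟨O, hO, hxO, -⟩ := exists_isAffineOpen_mem_and_subset (X := X) (x := x) (U := ⊤) trivial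
  have htop : O = ⊤ := Opens.ext (Set.eq_univ_of_forall fun z => (hspec z).mem_open O.2 hxO)
  haveI : IsAffine X := by
    haveI : IsAffine (⊤ : X.Opens).toScheme := htop ▸ hO
    exact IsAffine.of_isIso X.topIso.inv
  haveI : IsFinite f := IsFinite.iff_isProper_and_isAffineHom.2 ⟨inferInstance, inferInstance⟩
  exact PointBlowUp.isIso_of_finite_fibres f hn hgen fun z => f.finite_preimage_singleton z

/-- The function factoring on every component of the closed fibre. -/
theorem exists_function (hbir : ∃ U : (Spec (CommRingCat.of A)).Opens, (U : Set (Spec (CommRingCat.of A))).Nonempty ∧ IsIso (f ∣_ U))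
    (hf : ¬ IsIso f) (hA : IsLocalRing.maximalIdeal A ≠ ⊥) :
    ∃ a : A, a ≠ 0 ∧ a ∈ IsLocalRing.maximalIdeal A ∧
      ∀ C ∈ irreducibleComponents ↥(f.base ⁻¹' {IsLocalRing.closedPoint A}),
        ∃ (x ξ : ↥(f.base ⁻¹' {IsLocalRing.closedPoint A})) (hξx : (ξ : X) ⤳ (x : X)),
          x ∈ C ∧ IsGenericPoint ξ C ∧ IsClosed ({(x : X)} : Set X) ∧
          (∀ C' ∈ irreducibleComponents ↥(f.base ⁻¹' {IsLocalRing.closedPoint A}), C' ≠ C → x ∉ C') ∧
          ∃ g q : X.presheaf.stalk (x : X), g ∈ IsLocalRing.maximalIdeal (X.presheaf.stalk (x : X)) ∧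
            (X.presheaf.germ ⊤ (x : X) trivial).hom (Coh.toGlobal f a) = g * q ∧
            IsUnit ((X.presheaf.stalkSpecializes hξx).hom g) := by
  classical
  obtain ⟨U, hU, hiso⟩ := hbir
  haveI := hiso
  obtain ⟨hgen, hb⟩ := RelMin.birational_of_restrict f hU
  haveI := hb
  haveI : IsLocallyNoetherian X := LocallyOfFiniteType.isLocallyNoetherian f
  haveI : CompactSpace X := (inferInstance : QuasiCompact f).compactSpace_of_compactSpace
  haveI : AlgebraicGeometry.IsNoetherian X := {}
  have hFc : IsClosed (f.base ⁻¹' {IsLocalRing.closedPoint A}) :=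
    (IsLocalRing.isClosed_singleton_closedPoint A).preimage f.continuous
  haveI : NoetherianSpace ↥(f.base ⁻¹' {IsLocalRing.closedPoint A}) :=
    Topology.IsInducing.subtypeVal.noetherianSpace
  haveI : QuasiSober ↥(f.base ⁻¹' {IsLocalRing.closedPoint A}) :=
    hFc.isClosedEmbedding_subtypeVal.quasiSober
  have hCfin := NoetherianSpace.finite_irreducibleComponents (α := ↥(f.base ⁻¹' {IsLocalRing.closedPoint A}))
  haveI : JacobsonSpace ↥(f.base ⁻¹' {IsLocalRing.closedPoint A}) :=
    JacobsonSpace.of_isOpenEmbedding (f.fiberHomeo (IsLocalRing.closedPoint A : Spec (CommRingCat.of A))).symm.isOpenEmbedding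
  have hloc : ∀ C : irreducibleComponents ↥(f.base ⁻¹' {IsLocalRing.closedPoint A}),
      ∃ (u : A), u ≠ 0 ∧ ∃ (x ξ : ↥(f.base ⁻¹' {IsLocalRing.closedPoint A})) (hξx : (ξ : X) ⤳ (x : X)),
          x ∈ C.1 ∧ IsGenericPoint ξ C.1 ∧ IsClosed ({(x : X)} : Set X) ∧
          (∀ C' ∈ irreducibleComponents ↥(f.base ⁻¹' {IsLocalRing.closedPoint A}), C' ≠ C.1 → x ∉ C') ∧
          ∃ g q : X.presheaf.stalk (x : X), g ∈ IsLocalRing.maximalIdeal (X.presheaf.stalk (x : X)) ∧
            (X.presheaf.germ ⊤ (x : X) trivial).hom (Coh.toGlobal f u) = g * q ∧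
            IsUnit ((X.presheaf.stalkSpecializes hξx).hom g) := by
    rintro ⟨C, hC⟩
    let R : Set ↥(f.base ⁻¹' {IsLocalRing.closedPoint A}) := ⋃ C' ∈ irreducibleComponents _ \ {C}, C'
    have hRc : IsClosed R := (hCfin.subset Set.diff_subset).isClosed_biUnion fun C' h => isClosed_of_mem_irreducibleComponents _ h.1
    let ξ := hC.1.genericPoint
    have hξ : IsGenericPoint ξ C := hC.1.isGenericPoint_genericPoint (isClosed_of_mem_irreducibleComponents _ hC)
    have hξR : ξ ∉ R := fun h => by
      obtain ⟨C', ⟨hC', hne⟩, hξC'⟩ := Set.mem_iUnion₂.1 h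
      have hsub : C ⊆ C' := fun z hz => (hξ.specializes hz).mem_closed (isClosed_of_mem_irreducibleComponents _ hC') hξC'
      exact hne (le_antisymm (hC.2 hC'.1 hsub) hsub)
    obtain ⟨x, hxR, hxc⟩ := nonempty_inter_closedPoints (X := ↥(f.base ⁻¹' {IsLocalRing.closedPoint A}))
      (Z := Rᶜ) ⟨ξ, hξR⟩ hRc.isOpen_compl.isLocallyClosed
    have hxR' : ∀ C' ∈ irreducibleComponents ↥(f.base ⁻¹' {IsLocalRing.closedPoint A}), C' ≠ C → x ∉ C' :=
      fun C' hC' hne h => hxR (Set.mem_iUnion₂.2 ⟨C', ⟨hC', hne⟩, h⟩)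
    have hxC : x ∈ C := by
      obtain ⟨C', hC', hxC'⟩ : ∃ C' ∈ irreducibleComponents ↥(f.base ⁻¹' {IsLocalRing.closedPoint A}), x ∈ C' :=
        ⟨irreducibleComponent x, irreducibleComponent_mem_irreducibleComponents x, mem_irreducibleComponent⟩
      by_contra h
      exact hxR' C' hC' (fun e => h (e ▸ hxC')) hxC'
    have hxX : IsClosed ({(x : X)} : Set X) := by
      rw [← Set.image_singleton]
      exact hFc.isClosedEmbedding_subtypeVal.isClosedMap _ hxc
    have hξx : (ξ : X) ⤳ (x : X) := (hξ.specializes hxC).map continuous_subtype_val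
    have hne : (ξ : X) ≠ (x : X) := fun e => by
      refine hf (isIso_of_isolated f hgen x.2 ?_ hxX)
      obtain ⟨V, hV, hVR⟩ := isOpen_induced_iff.1 hRc.isOpen_compl
      refine ⟨V, hV, Set.ext fun z => ⟨fun ⟨hzV, hzF⟩ => ?_, ?_⟩⟩
      · have hzR : (⟨z, hzF⟩ : ↥(f.base ⁻¹' {IsLocalRing.closedPoint A})) ∉ R := hVR.le hzV
        obtain ⟨C', hC', hzC'⟩ : ∃ C' ∈ irreducibleComponents ↥(f.base ⁻¹' {IsLocalRing.closedPoint A}), (⟨z, hzF⟩ : ↥(f.base ⁻¹' {IsLocalRing.closedPoint A})) ∈ C' :=
          ⟨irreducibleComponent _, irreducibleComponent_mem_irreducibleComponents _, mem_irreducibleComponent⟩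
        have hCC : C' = C := by
          by_contra hne'
          exact hzR (Set.mem_iUnion₂.2 ⟨C', ⟨hC', hne'⟩, hzC'⟩)
        subst hCC
        have h1 : (ξ : X) ⤳ z := (hξ.specializes hzC').map continuous_subtype_val
        rw [e] at h1
        exact h1.mem_closed hxX rfl
      · rintro rfl
        exact ⟨hVR.ge hxR, x.2⟩
    -- a non-unit at `x` invertible at `ξ`
    obtain ⟨g, hg, hgu⟩ : ∃ g ∈ IsLocalRing.maximalIdeal (X.presheaf.stalk (x : X)),
        IsUnit ((X.presheaf.stalkSpecializes hξx).hom g) := by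
      obtain ⟨W, hW, hxW, -⟩ := exists_isAffineOpen_mem_and_subset (X := X) (x := (x : X)) (U := ⊤) trivial
      have hξW : (ξ : X) ∈ W := hξx.mem_open W.2 hxW
      obtain ⟨b, hb1, hb2⟩ : ∃ b : Γ(X, W), (x : X) ∉ X.basicOpen b ∧ (ξ : X) ∈ X.basicOpen b := by
        have hop : IsOpen ({(x : X)}ᶜ ∩ (W : Set X)) := hxX.isOpen_compl.inter W.2
        obtain ⟨b, hb, hξb⟩ := hW.exists_basicOpen_le (V := ⟨_, hop⟩) ⟨(ξ : X), hne, hξW⟩ hξW
        exact ⟨b, fun h => (hb h).1 rfl, hξb⟩
      refine ⟨X.presheaf.germ W _ hxW b, (IsLocalRing.mem_maximalIdeal _).2 fun h => hb1 ((Scheme.mem_basicOpen _ _ _ hxW).2 h), ?_⟩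
      show IsUnit (X.presheaf.stalkSpecializes hξx (X.presheaf.germ W _ hxW b))
      rw [TopCat.Presheaf.germ_stalkSpecializes_apply]
      exact (Scheme.mem_basicOpen _ _ _ hξW).1 hb2
    -- clear the denominator
    let γ : X.functionField := X.presheaf.stalkSpecializes (genericPoint_specializes (x : X)) g
    have hdom : f (genericPoint X) ⤳ genericPoint (Spec (CommRingCat.of A)) := specializes_of_eq hgen
    let φ : (Spec (CommRingCat.of A)).functionField ⟶ X.functionField :=
      (Spec (CommRingCat.of A)).presheaf.stalkSpecializes hdom ≫ f.stalkMap (genericPoint X)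
    have hφ : Function.Bijective φ := by
      haveI : IsIso ((Spec (CommRingCat.of A)).presheaf.stalkSpecializes hdom) :=
        ((Spec (CommRingCat.of A)).presheaf.stalkCongr (.of_eq hgen.symm)).isIso_hom
      exact ConcreteCategory.bijective_of_isIso φ
    let θ : (z : X) → A →+* X.presheaf.stalk z := fun z => (X.presheaf.germ ⊤ z trivial).hom.comp (Coh.toGlobal f)
    haveI : IsDomain (CommRingCat.of A) := ‹IsDomain A›
    letI : Algebra A (Spec (CommRingCat.of A)).functionField :=
      AlgebraicGeometry.instAlgebraCarrierFunctionFieldSpec (CommRingCat.of A)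
    haveI : IsFractionRing A (Spec (CommRingCat.of A)).functionField :=
      functionField_isFractionRing_of_affine (CommRingCat.of A)
    have hθ : ∀ c : A, φ (algebraMap A (Spec (CommRingCat.of A)).functionField c) = θ (genericPoint X) c := fun c => by
      show f.stalkMap (genericPoint X) ((Spec (CommRingCat.of A)).presheaf.stalkSpecializes hdom
        ((Spec (CommRingCat.of A)).presheaf.germ ⊤ (genericPoint _) trivial ((Scheme.ΓSpecIso (CommRingCat.of A)).inv c))) = _
      rw [TopCat.Presheaf.germ_stalkSpecializes_apply, Scheme.Hom.germ_stalkMap_apply]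
      rfl
    have hθs : ∀ (z : X) (c : A), X.presheaf.stalkSpecializes (genericPoint_specializes z) (θ z c) = θ (genericPoint X) c :=
      fun z c => TopCat.Presheaf.germ_stalkSpecializes_apply _ _ _ _
    obtain ⟨γ', hγ'⟩ := hφ.2 γ
    obtain ⟨u, v, hv, huv⟩ := IsFractionRing.div_surjective (A := A) γ'
    have hv0 : algebraMap A (Spec (CommRingCat.of A)).functionField v ≠ 0 :=
      IsFractionRing.to_map_ne_zero_of_mem_nonZeroDivisors hv
    rw [div_eq_iff hv0] at huv
    haveI : IsDomain (X.presheaf.stalk (x : X)) := inferInstance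
    have hinj : Function.Injective (X.presheaf.stalkSpecializes (genericPoint_specializes (x : X))) :=
      IsFractionRing.injective (X.presheaf.stalk (x : X)) X.functionField
    have heq : θ (x : X) u = g * θ (x : X) v := hinj (by
      rw [map_mul, hθs, hθs, ← hθ, ← hθ, huv, map_mul, hγ'])
    have hu0 : u ≠ 0 := fun h => by
      have hγ0 : γ ≠ 0 := fun h0 => by
        have : g = 0 := hinj (h0.trans (map_zero _).symm)
        rw [this, map_zero] at hgu
        exact not_isUnit_zero hgu
      rw [h, map_zero, zero_eq_mul] at huv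
      exact huv.elim (fun h' => hγ0 (by rw [← hγ', h', map_zero])) hv0
    exact ⟨u, hu0, x, ξ, hξx, hxC, hξ, hxX, hxR', g, θ (x : X) v, hg, heq, hgu⟩
  choose u hu0 x ξ hξx hxC hξ hxX hxR g q hg hq hgu using hloc
  obtain ⟨w, hw, hw0⟩ := Submodule.exists_mem_ne_zero_of_ne_bot hA
  haveI := hCfin.fintype
  refine ⟨w * ∏ C, u C, mul_ne_zero hw0 (Finset.prod_ne_zero_iff.2 fun C _ => hu0 C), Ideal.mul_mem_right _ _ hw,
    fun C hC => ?_⟩
  let C' : irreducibleComponents ↥(f.base ⁻¹' {IsLocalRing.closedPoint A}) := ⟨C, hC⟩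
  obtain ⟨r, hr⟩ : u C' ∣ w * ∏ D, u D := dvd_mul_of_dvd_right (Finset.dvd_prod_of_mem u (Finset.mem_univ C')) w
  refine ⟨x C', ξ C', hξx C', hxC C', hξ C', hxX C', hxR C', g C',
    q C' * (X.presheaf.germ ⊤ (x C' : X) trivial).hom (Coh.toGlobal f r), hg C', ?_, hgu C'⟩
  rw [hr, map_mul, map_mul, hq C', mul_assoc]

end Groth.Agent.FibreFn32
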